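import Groth.Prelude.Def_W4c5nonratstablectREq
import Groth.Agent.Lib.ValExt9.Basic
import Groth.Agent.Lib.ProjPic26.Over
import Groth.Agent.Lib.CurveMult.P1Split
import Groth.Agent.Lib.ProjIso26.Basic
import Groth.Agent.Lib.ArSurf29.Spread
import Groth.Agent.Lib.RedSmooth.Basic
import Mathlib.AlgebraicGeometry.SpreadingOut
import Mathlib.AlgebraicGeometry.Birational.RationalMap

/-!
# Maps from the projective line over a function field spread out
-/

set_option autoImplicit false
set_option maxHeartbeats 400000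
set_option linter.style.haveILetI false
set_option backward.isDefEq.respectTransparency false

universe u

open AlgebraicGeometry CategoryTheory CategoryTheory.Limits TopologicalSpace

namespace GrothLib.RInv26

/-- A morphism from a nonempty open of a curve with valuation ring stalks to a proper scheme extends. -/
theorem exists_extension_top {C X S : Scheme.{u}} [IsIntegral C] [NoetherianSpace C] (p : C ⟶ S) (q : X ⟶ S)
    [IsProper q] (hval : ∀ x : C, ValuationRing (C.presheaf.stalk x)) (U : C.Opens)
    (hU : (U : Set C).Nonempty) (h : (U : Scheme.{u}) ⟶ X) (hh : h ≫ q = U.ι ≫ p) :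
    ∃ g : C ⟶ X, g ≫ q = p ∧ U.ι ≫ g = h := by
  obtain ⟨W, ⟨hUW, g, hg, hgh⟩, hmax⟩ := (wellFounded_gt (α := C.Opens)).has_min
    {W | ∃ (hUW : U ≤ W) (g : (W : Scheme.{u}) ⟶ X), g ≫ q = W.ι ≫ p ∧ C.homOfLE hUW ≫ g = h}
    ⟨U, le_rfl, h, hh, by rw [Scheme.homOfLE_rfl, Category.id_comp]⟩
  have htop : W = ⊤ := by
    refine eq_top_iff.2 fun x _ => ?_
    by_contra hx
    haveI := hval x
    obtain ⟨W', hWW', hxW', g', hg', hgg'⟩ := ValExt9.exists_extension p q x W g hg
      ((W.2.dense (hU.mono hUW)).closure_eq.ge trivial)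
    refine hmax W' ⟨hUW.trans hWW', g', hg', ?_⟩ (lt_of_le_of_ne hWW' fun e => hx (e ▸ hxW'))
    rw [← Scheme.homOfLE_homOfLE C hUW hWW', Category.assoc, hgg', hgh]
  subst htop
  refine ⟨C.topIso.inv ≫ g, ?_, ?_⟩
  · rw [Category.assoc, hg, ← Category.assoc]
    exact (congrArg (· ≫ p) C.topIso.inv_hom_id).trans (Category.id_comp p)
  · rw [← Category.assoc]
    refine Eq.trans (congrArg (· ≫ g) ?_) hgh
    rw [← cancel_mono (⊤ : C.Opens).ι, Category.assoc, Scheme.homOfLE_ι]
    exact (congrArg (U.ι ≫ ·) C.topIso.inv_hom_id).trans (Category.comp_id _)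

variable {K : Type u} [Field K]

instance isIntegral_P1K : IsIntegral (REq.P1K K) := ProjIso26.isIntegral_projSpaceOver_field 1 K

theorem valuationRing_stalk_P1K (x : REq.P1K K) : ValuationRing ((REq.P1K K).presheaf.stalk x) := by
  haveI := ProjIso26.isIso_toProjSpace 1 K
  let e := Ample.ProjMap.toProjSpace 1 K
  haveI := CurveMult.P1Split.pid K (e x)
  haveI : IsPrincipalIdealRing ((REq.P1K K).presheaf.stalk x) :=
    IsPrincipalIdealRing.of_surjective (e.stalkMap x).hom
      (ConcreteCategory.bijective_of_isIso (e.stalkMap x)).2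
  infer_instance

instance noetherianSpace_P1K : NoetherianSpace (REq.P1K K) := by
  haveI : IsLocallyNoetherian (REq.P1K K) :=
    LocallyOfFiniteType.isLocallyNoetherian (REq.P1K.toSpec K)
  haveI : CompactSpace (REq.P1K K) :=
    QuasiCompact.compactSpace_of_compactSpace (REq.P1K.toSpec K)
  haveI : IsNoetherian (REq.P1K K) := {}
  infer_instance

theorem eq_of_comp_eq {T X S : Scheme.{u}} [IsIntegral T] (q : X ⟶ S) [IsSeparated q] {a b : T ⟶ X}
    (hq : a ≫ q = b ≫ q) {W : Scheme.{u}} [Nonempty W] (ι : W ⟶ T)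
    (hι : ∀ w, ι w = genericPoint T) (h : ι ≫ a = ι ≫ b) : a = b := by
  haveI : IsDominant ι := ⟨by
    show Dense (Set.range ι)
    rw [dense_iff_closure_eq, Set.eq_univ_iff_forall]
    intro t
    obtain ⟨w⟩ := ‹Nonempty W›
    have hw : ({genericPoint T} : Set T) ⊆ Set.range ι := Set.singleton_subset_iff.2 ⟨w, hι w⟩
    exact closure_mono hw ((genericPoint_spec T).def.ge trivial)⟩
  exact ext_of_isDominant_of_isSeparated q hq ι h

theorem apply_genericPoint {C P : Scheme.{u}} [IsIntegral C] [IsIntegral P] (j : C ⟶ P) (hj : DenseRange j) :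
    j (genericPoint C) = genericPoint P := by
  refine (IsGenericPoint.eq (α := P) ?_ (genericPoint_spec P))
  have h : IsGenericPoint (genericPoint C) (Set.univ : Set C) := genericPoint_spec C
  have h' := h.image j.continuous
  rw [Set.image_univ, hj.closure_range] at h'
  exact h'

/-- The morphism extends to an open neighbourhood of the image of a dense flat preimmersion. -/
theorem exists_spread {C P X S : Scheme.{u}} [IsIntegral C] [IsIntegral P] (j : C ⟶ P) [IsPreimmersion j] [Flat j]
    (hj : DenseRange j) (p : P ⟶ S) (q : X ⟶ S) [S.IsSeparated] [LocallyOfFiniteType q] [X.IsSeparated]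
    (h : C ⟶ X) (hh : h ≫ q = j ≫ p) :
    ∃ (Ω : P.Opens) (_ : Set.range j ⊆ Ω) (g : (Ω : Scheme.{u}) ⟶ X), g ≫ q = Ω.ι ≫ p ∧
      ∀ (T : Scheme.{u}) (a : T ⟶ C) (b : T ⟶ (Ω : Scheme.{u})), b ≫ Ω.ι = a ≫ j → b ≫ g = a ≫ h := by
  haveI : ∀ y, IsIso (j.stalkMap y) := fun y => ArSurf29.isIso_stalkMap_of_flat_preimmersion j y
  let φ : ∀ y : C, Spec (P.presheaf.stalk (j y)) ⟶ X := fun y =>
    Spec.map (inv (j.stalkMap y)) ≫ C.fromSpecStalk y ≫ h
  have hφ : ∀ y, φ y ≫ q = P.fromSpecStalk (j y) ≫ p := by
    intro y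
    simp only [φ, Category.assoc]
    rw [hh, ← Scheme.SpecMap_stalkMap_fromSpecStalk_assoc, ← Spec.map_comp_assoc, IsIso.hom_inv_id, Spec.map_id,
      Category.id_comp]
  let pm : ∀ y : C, P.PartialMap X := fun y => Scheme.PartialMap.ofFromSpecStalk p q (φ y) (hφ y)
  have hfun : ∀ y, (pm y).toRationalMap.fromFunctionField =
      Spec.map (P.presheaf.stalkSpecializes (genericPoint_specializes (j y))) ≫ φ y := by
    intro y
    rw [Scheme.RationalMap.fromFunctionField_toRationalMap]
    have hm : j y ∈ (pm y).domain := Scheme.PartialMap.mem_domain_ofFromSpecStalk p q (φ y) (hφ y)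
    have h1 := Scheme.PartialMap.fromSpecStalkOfMem_ofFromSpecStalk p q (φ y) (hφ y)
    rw [← h1]
    simp only [Scheme.PartialMap.fromFunctionField, Scheme.PartialMap.fromSpecStalkOfMem]
    rw [← Category.assoc]
    congr 1
    rw [← cancel_mono (pm y).domain.ι, Category.assoc, Scheme.Opens.fromSpecStalkOfMem_ι,
      Scheme.Opens.fromSpecStalkOfMem_ι, Scheme.SpecMap_stalkSpecializes_fromSpecStalk]
  have hC : ∀ y, Spec.map (P.presheaf.stalkSpecializes (genericPoint_specializes (j y))) ≫ φ y =
      Spec.map (P.presheaf.stalkSpecializes (genericPoint_specializes (j (genericPoint C)))) ≫ φ (genericPoint C) := by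
    intro y
    have hs : genericPoint C ⤳ y := genericPoint_specializes y
    have key : Spec.map (P.presheaf.stalkSpecializes (hs.map j.continuous)) ≫ φ y = φ (genericPoint C) := by
      have e := Scheme.Hom.stalkSpecializes_stalkMap j (genericPoint C) y hs
      have e' : inv (j.stalkMap y) ≫ P.presheaf.stalkSpecializes (hs.map j.continuous) =
          C.presheaf.stalkSpecializes hs ≫ inv (j.stalkMap (genericPoint C)) := by
        rw [IsIso.inv_comp_eq, ← Category.assoc, IsIso.eq_comp_inv]
        exact e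
      simp only [φ]
      rw [← Spec.map_comp_assoc, e', Spec.map_comp_assoc, Scheme.SpecMap_stalkSpecializes_fromSpecStalk_assoc]
    rw [← key]
    refine Eq.trans ?_ (Spec.map_comp_assoc _ _ _)
    rw [TopCat.Presheaf.stalkSpecializes_comp]
  let r : P ⤏ X := (pm (genericPoint C)).toRationalMap
  have hr : ∀ y, (pm y).toRationalMap = r := fun y => by
    apply Scheme.RationalMap.eq_of_fromFunctionField_eq
    rw [hfun, hC y, ← hfun]
  let F := r.toPartialMap
  have hdom : Set.range j ⊆ F.domain := by
    rintro _ ⟨y, rfl⟩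
    show j y ∈ r.domain
    rw [← hr y]
    exact (pm y).le_domain_toRationalMap (Scheme.PartialMap.mem_domain_ofFromSpecStalk p q (φ y) (hφ y))
  let jΩ := IsOpenImmersion.lift F.domain.ι j (by rw [Scheme.Opens.range_ι]; exact hdom)
  have hjΩ : jΩ ≫ F.domain.ι = j := IsOpenImmersion.lift_fac _ _ _
  haveI : IsIntegral (F.domain : Scheme.{u}) :=
    haveI : Nonempty (F.domain : Scheme.{u}) := ⟨jΩ (genericPoint C)⟩
    isIntegral_of_isOpenImmersion F.domain.ι
  -- the value at the generic point
  have hFgen : F.fromFunctionField =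
      Spec.map (P.presheaf.stalkSpecializes (genericPoint_specializes (j (genericPoint C)))) ≫ φ (genericPoint C) := by
    rw [← Scheme.RationalMap.fromFunctionField_toRationalMap, Scheme.RationalMap.toRationalMap_toPartialMap]
    exact hfun _
  have hη : F.domain.fromSpecStalkOfMem (genericPoint P) (hdom ⟨_, apply_genericPoint j hj⟩) ≫ F.hom =
      F.fromFunctionField := rfl
  have hFC : jΩ ≫ F.hom = h := by
    have hq : C.fromSpecStalk (genericPoint C) ≫ jΩ ≫ F.hom = C.fromSpecStalk (genericPoint C) ≫ h := by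
      have e0 : C.fromSpecStalk (genericPoint C) ≫ jΩ =
          Spec.map (j.stalkMap (genericPoint C)) ≫ Spec.map (P.presheaf.stalkSpecializes
            (specializes_of_eq (apply_genericPoint j hj))) ≫
            F.domain.fromSpecStalkOfMem (genericPoint P) (hdom ⟨_, apply_genericPoint j hj⟩) := by
        rw [← cancel_mono F.domain.ι, Category.assoc, hjΩ, Category.assoc, Category.assoc,
          Scheme.Opens.fromSpecStalkOfMem_ι, Scheme.SpecMap_stalkSpecializes_fromSpecStalk,
          Scheme.SpecMap_stalkMap_fromSpecStalk]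
      rw [reassoc_of% e0, hη, hFgen]
      refine (congrArg (Spec.map (j.stalkMap (genericPoint C)) ≫ ·) ((Spec.map_comp_assoc _ _ _).symm.trans
        (congrArg (fun m => Spec.map m ≫ φ (genericPoint C)) (TopCat.Presheaf.stalkSpecializes_comp _ _ _)))).trans ?_
      have e1 : P.presheaf.stalkSpecializes (specializes_refl (j (genericPoint C))) = 𝟙 _ :=
        TopCat.Presheaf.stalkSpecializes_refl _ _
      rw [e1, Spec.map_id, Category.id_comp]
      simp only [φ]
      rw [← Spec.map_comp_assoc, IsIso.inv_hom_id, Spec.map_id, Category.id_comp]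
    haveI : IsDominant (C.fromSpecStalk (genericPoint C)) := ⟨by
      show Dense (Set.range (C.fromSpecStalk (genericPoint C)))
      rw [Scheme.range_fromSpecStalk, dense_iff_closure_eq, Set.eq_univ_iff_forall]
      intro t
      exact closure_mono (Set.singleton_subset_iff.2 specializes_rfl) ((genericPoint_spec C).def.ge trivial)⟩
    exact ext_of_isDominant (C.fromSpecStalk (genericPoint C)) hq
  refine ⟨F.domain, hdom, F.hom, ?_, ?_⟩
  · haveI : IsDominant jΩ := ⟨by
      show Dense (Set.range jΩ)
      have hd : Dense (Set.range (jΩ ≫ F.domain.ι)) := by rw [hjΩ]; exact hj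
      intro z
      rw [F.domain.ι.isOpenEmbedding.isInducing.closure_eq_preimage_closure_image, Set.mem_preimage,
        ← Set.range_comp]
      exact hd (F.domain.ι z)⟩
    refine ext_of_isDominant jΩ ?_
    rw [← Category.assoc, hFC, hh, ← Category.assoc, hjΩ]
  · intro T a b hab
    have : b = a ≫ jΩ := by rw [← cancel_mono F.domain.ι, hab, Category.assoc, hjΩ]
    rw [this, Category.assoc, hFC]

end GrothLib.RInv26
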