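import Groth.Prelude.Def_P1
import Groth.Agent.Lib.RInv26.Spread
import Groth.Agent.Lib.InjSky20.Basic
import Mathlib.AlgebraicGeometry.PullbackCarrier

/-!
# Homotopy invariant functors do not separate R-equivalent points
-/

set_option autoImplicit false
set_option maxHeartbeats 400000
set_option linter.style.haveILetI false
set_option linter.unusedSectionVars false
set_option backward.isDefEq.respectTransparency false

universe u v

open AlgebraicGeometry CategoryTheory CategoryTheory.Limits TopologicalSpace Opposite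

namespace GrothLib.RInv26

variable {X : Scheme.{u}} [IsIntegral X]

/-- The generic point in a nonempty open. -/
noncomputable def genPt (U : X.Opens) (hU : genericPoint X ∈ U) : Spec X.functionField ⟶ (U : Scheme.{u}) :=
  U.fromSpecStalkOfMem (genericPoint X) hU

theorem genPt_ι (U : X.Opens) (hU : genericPoint X ∈ U) :
    genPt U hU ≫ U.ι = X.fromSpecStalk (genericPoint X) :=
  Scheme.Opens.fromSpecStalkOfMem_ι _ _ _

theorem genPt_homOfLE {U V : X.Opens} (hUV : U ≤ V) (hU : genericPoint X ∈ U) :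
    genPt U hU ≫ X.homOfLE hUV = genPt V (hUV hU) := by
  rw [← cancel_mono V.ι, Category.assoc, Scheme.homOfLE_ι, genPt_ι, genPt_ι]

instance isPreimmersion_genPt (U : X.Opens) (hU : genericPoint X ∈ U) : IsPreimmersion (genPt U hU) :=
  haveI : IsPreimmersion (genPt U hU ≫ U.ι) := by rw [genPt_ι]; infer_instance
  IsPreimmersion.of_comp _ U.ι

instance flat_genPt (U : X.Opens) (hU : genericPoint X ∈ U) : Flat (genPt U hU) := by
  haveI : Flat (X.fromSpecStalk (genericPoint X)) := InjSky20.flat_fromSpecStalk _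
  have hP : IsPullback (𝟙 _) (genPt U hU) (X.fromSpecStalk (genericPoint X)) U.ι := by
    rw [← genPt_ι U hU]
    exact ArSurf29.isPullback_comp_mono _ _
  exact MorphismProperty.of_isPullback hP inferInstance

theorem denseRange_genPt (U : X.Opens) (hU : genericPoint X ∈ U) : DenseRange (genPt U hU) := by
  intro z
  rw [U.ι.isOpenEmbedding.isInducing.closure_eq_preimage_closure_image, Set.mem_preimage, ← Set.range_comp,
    show (⇑U.ι ∘ ⇑(genPt U hU)) = ⇑(genPt U hU ≫ U.ι) from rfl, genPt_ι, Scheme.range_fromSpecStalk]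
  exact closure_mono (Set.singleton_subset_iff.2 specializes_rfl) ((genericPoint_spec X).def.ge trivial)

/-- A morphism out of an open which is determined by its value at the generic point. -/
theorem ext_genPt {Y S : Scheme.{u}} (q : Y ⟶ S) [IsSeparated q] {U : X.Opens} (hU : genericPoint X ∈ U)
    {a b : (U : Scheme.{u}) ⟶ Y} (hq : a ≫ q = b ≫ q) (h : genPt U hU ≫ a = genPt U hU ≫ b) : a = b := by
  haveI : IsReduced (U : Scheme.{u}) := isReduced_of_isOpenImmersion U.ι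
  haveI : IsDominant (genPt U hU) := ⟨denseRange_genPt U hU⟩
  exact ext_of_isDominant_of_isSeparated q hq (genPt U hU) h

variable {k : Type u} [Field k] (f : X ⟶ Spec (CommRingCat.of k)) (V : X.Opens)
variable (Φ : (Over (Spec (CommRingCat.of k)))ᵒᵖ ⥤ Type v)

/-- The restriction of a class along a morphism from an open. -/
noncomputable def resΦ {U : X.Opens} (g : (U : Scheme.{u}) ⟶ X) (hg : g ≫ f = U.ι ≫ f) :
    Φ.obj (op (Over.mk f)) → Φ.obj (op (Over.mk (U.ι ≫ f))) :=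
  fun ξ => Φ.map (Over.homMk g hg : Over.mk (U.ι ≫ f) ⟶ Over.mk f).op ξ

/-- Two generic points have the same values on all classes over some nonempty open. -/
def Good (C D : Spec X.functionField ⟶ X) : Prop :=
  ∃ (U : X.Opens) (hU : genericPoint X ∈ U) (_ : U ≤ V) (g g' : (U : Scheme.{u}) ⟶ X)
    (hg : g ≫ f = U.ι ≫ f) (hg' : g' ≫ f = U.ι ≫ f), genPt U hU ≫ g = C ∧ genPt U hU ≫ g' = D ∧
      resΦ f Φ g hg = resΦ f Φ g' hg'

theorem resΦ_homOfLE {U W : X.Opens} (h : W ≤ U) (g : (U : Scheme.{u}) ⟶ X) (hg : g ≫ f = U.ι ≫ f)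
    (hg' : (X.homOfLE h ≫ g) ≫ f = W.ι ≫ f) :
    resΦ f Φ (X.homOfLE h ≫ g) hg' = fun ξ =>
      Φ.map (Over.homMk (X.homOfLE h) (by simp) : Over.mk (W.ι ≫ f) ⟶ Over.mk (U.ι ≫ f)).op (resΦ f Φ g hg ξ) := by
  funext ξ
  simp only [resΦ]
  rw [← Functor.map_comp_apply, ← op_comp]
  rfl

variable {f V Φ}

theorem Good.symm {C D : Spec X.functionField ⟶ X} (h : Good f V Φ C D) : Good f V Φ D C := by
  obtain ⟨U, hU, hUV, g, g', hg, hg', e, e', h⟩ := h
  exact ⟨U, hU, hUV, g', g, hg', hg, e', e, h.symm⟩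

theorem Good.trans [IsSeparated f] {C D E : Spec X.functionField ⟶ X} (h₁ : Good f V Φ C D)
    (h₂ : Good f V Φ D E) : Good f V Φ C E := by
  obtain ⟨U, hU, hUV, g, g', hg, hg', e, e', h⟩ := h₁
  obtain ⟨W, hW, -, a, a', ha, ha', d, d', h'⟩ := h₂
  let U₂ := U ⊓ W
  have hgg : X.homOfLE (inf_le_left : U₂ ≤ U) ≫ g' = X.homOfLE (inf_le_right : U₂ ≤ W) ≫ a := by
    refine ext_genPt f (U := U₂) ⟨hU, hW⟩ (by rw [Category.assoc, Category.assoc, hg', ha, Scheme.homOfLE_ι_assoc, Scheme.homOfLE_ι_assoc]) ?_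
    rw [← Category.assoc, genPt_homOfLE, e', ← Category.assoc, genPt_homOfLE, d]
  have hg₂ : (X.homOfLE (inf_le_left : U₂ ≤ U) ≫ g) ≫ f = U₂.ι ≫ f := by rw [Category.assoc, hg, Scheme.homOfLE_ι_assoc]
  have ha₂ : (X.homOfLE (inf_le_right : U₂ ≤ W) ≫ a') ≫ f = U₂.ι ≫ f := by rw [Category.assoc, ha', Scheme.homOfLE_ι_assoc]
  refine ⟨U₂, ⟨hU, hW⟩, inf_le_left.trans hUV, _, _, hg₂, ha₂, ?_, ?_, ?_⟩
  · rw [← Category.assoc, genPt_homOfLE, e]
  · rw [← Category.assoc, genPt_homOfLE, d']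
  · have hm : (X.homOfLE (inf_le_left : U₂ ≤ U) ≫ g') ≫ f = U₂.ι ≫ f := by rw [Category.assoc, hg', Scheme.homOfLE_ι_assoc]
    calc resΦ f Φ _ hg₂ = resΦ f Φ _ hm := by
          rw [resΦ_homOfLE f Φ _ g hg hg₂, resΦ_homOfLE f Φ _ g' hg' hm, h]
      _ = resΦ f Φ (X.homOfLE (inf_le_right : U₂ ≤ W) ≫ a) (by rw [Category.assoc, ha, Scheme.homOfLE_ι_assoc]) := by
          congr 1
      _ = resΦ f Φ _ ha₂ := by
          rw [resΦ_homOfLE f Φ _ a ha (by rw [Category.assoc, ha, Scheme.homOfLE_ι_assoc]),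
            resΦ_homOfLE f Φ _ a' ha' ha₂, h']

/-- The generic point of a morphism spreads out. -/
theorem exists_spread_point {Y S : Scheme.{u}} (p : X ⟶ S) (q : Y ⟶ S) [LocallyOfFiniteType q] {V : X.Opens}
    (hV : genericPoint X ∈ V) (φ : Spec X.functionField ⟶ Y) (hφ : φ ≫ q = X.fromSpecStalk (genericPoint X) ≫ p) :
    ∃ (U : X.Opens) (hU : genericPoint X ∈ U) (_ : U ≤ V) (g : (U : Scheme.{u}) ⟶ Y),
      g ≫ q = U.ι ≫ p ∧ genPt U hU ≫ g = φ := by
  obtain ⟨W, hW, g, hg, hgq⟩ := spread_out_of_isGermInjective' (sX := p) (sY := q) φ hφ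
  refine ⟨W ⊓ V, ⟨hW, hV⟩, inf_le_right, X.homOfLE inf_le_left ≫ g, by rw [Category.assoc, hgq, Scheme.homOfLE_ι_assoc], ?_⟩
  rw [← Category.assoc, genPt_homOfLE]
  exact hg.symm

variable [Algebra k X.functionField]

theorem good_refl [IsSeparated f] [LocallyOfFiniteType f]
    (halg : REq.specMap k X.functionField = X.fromSpecStalk (genericPoint X) ≫ f) (hV : genericPoint X ∈ V)
    (C : REq.Pts f X.functionField) : Good f V Φ C.1 C.1 := by
  obtain ⟨U, hU, hUV, g, hg, he⟩ := exists_spread_point f f hV C.1 (C.2.trans halg)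
  exact ⟨U, hU, hUV, g, g, hg, hg, he, he, rfl⟩

set_option maxHeartbeats 1600000 in
/-- Directly linked generic points have the same values near the generic point. -/
theorem good_of_elemLink [IsProper f] [IsAffine (V : Scheme.{u})] [Smooth (V.ι ≫ f)]
    (halg : REq.specMap k X.functionField = X.fromSpecStalk (genericPoint X) ≫ f) (hV : genericPoint X ∈ V)
    (hΦ : ∀ (Y : Scheme.{u}) (g : Y ⟶ Spec (CommRingCat.of k)) [IsIntegral Y] [Smooth g]
      [IsSeparated g] [QuasiCompact g],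
      Function.Bijective (Φ.map (Over.homMk (CohB1.ProjSpaceOver.toBase 1 Y) rfl :
        Over.mk (CohB1.ProjSpaceOver.toBase 1 Y ≫ g) ⟶ Over.mk g).op))
    {A B : REq.Pts f X.functionField} (hAB : REq.ElemLink f X.functionField A B) : Good f V Φ A.1 B.1 := by
  obtain ⟨U', h, a, b, hh, ha, hb, hA, hB⟩ := hAB
  haveI : X.IsSeparated := ⟨by
    rw [← terminal.comp_from f]
    infer_instance⟩
  haveI : IsLocallyNoetherian X := LocallyOfFiniteType.isLocallyNoetherian f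
  haveI : CompactSpace X := QuasiCompact.compactSpace_of_compactSpace f
  haveI : IsNoetherian X := {}
  -- extend over the projective line
  obtain ⟨hbar, hbarf, hbarh⟩ := exists_extension_top (REq.P1K.toSpec X.functionField ≫ REq.specMap k X.functionField)
    f valuationRing_stalk_P1K U' ⟨_, (a (IsLocalRing.closedPoint X.functionField)).2⟩ h hh
  -- the family
  let T : Scheme.{u} := (V : Scheme.{u})
  let π : CohB1.ProjSpaceOver 1 T ⟶ T := CohB1.ProjSpaceOver.toBase 1 T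
  haveI : Nonempty T := ⟨⟨genericPoint X, hV⟩⟩
  haveI : IsIntegral T := isIntegral_of_isOpenImmersion V.ι
  haveI : IsLocallyNoetherian T := isLocallyNoetherian_of_isOpenImmersion V.ι
  haveI : GeometricallyIntegral π := inferInstanceAs (GeometricallyIntegral (CohB1.ProjSpaceOver.toBase 1 T))
  haveI : Smooth π := inferInstanceAs (Smooth (CohB1.ProjSpaceOver.toBase 1 T))
  haveI : IsProper π := inferInstanceAs (IsProper (CohB1.ProjSpaceOver.toBase 1 T))
  haveI : UniversallyOpen π := UniversallyOpen.of_flat π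
  haveI : IsIntegral (CohB1.ProjSpaceOver 1 T) := by
    haveI := GeometricallyIntegral.isIntegral_of_isLocallyNoetherian π
    assumption
  let j : REq.P1K X.functionField ⟶ CohB1.ProjSpaceOver 1 T := P1.toP1 (genPt V hV)
  have hsq : IsPullback j (REq.P1K.toSpec X.functionField) π (genPt V hV) :=
    IsPullback.of_right (t := (IsPullback.of_hasPullback (CohB1.ProjSpace.toSpec 1 (ULift.{u} ℤ))
        (specULiftZIsTerminal.from T)))
      (by
        have e₁ : j ≫ pullback.fst (CohB1.ProjSpace.toSpec 1 (ULift.{u} ℤ)) (specULiftZIsTerminal.from T) =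
            pullback.fst _ _ := (pullback.lift_fst _ _ _).trans (Category.comp_id _)
        have e₂ : genPt V hV ≫ specULiftZIsTerminal.from T = specULiftZIsTerminal.from _ :=
          specULiftZIsTerminal.hom_ext _ _
        rw [e₁, e₂]
        exact IsPullback.of_hasPullback _ _)
      (pullback.lift_snd _ _ _)
  haveI : IsPreimmersion j := MorphismProperty.of_isPullback hsq.flip (inferInstanceAs (IsPreimmersion (genPt V hV)))
  haveI : Flat j := MorphismProperty.of_isPullback hsq.flip (inferInstanceAs (Flat (genPt V hV)))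
  have hrange : Set.range j = π ⁻¹' Set.range (genPt V hV) := by
    refine Set.Subset.antisymm ?_ ?_
    · rintro _ ⟨y, rfl⟩
      exact ⟨REq.P1K.toSpec X.functionField y, (congrArg (fun m => m y) hsq.w).symm⟩
    · rintro z ⟨s, hs⟩
      obtain ⟨y, hy, -⟩ := Scheme.exists_preimage_of_isPullback hsq z s hs.symm
      exact ⟨y, hy⟩
  have hj : DenseRange j := by
    rw [DenseRange, hrange]
    exact (denseRange_genPt V hV).preimage π.isOpenMap
  obtain ⟨Ω, hΩ, gΩ, hgΩ, hgΩj⟩ := exists_spread j hj (π ≫ V.ι ≫ f) f hbar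
    (by rw [hbarf, ← Category.assoc j π, hsq.w, Category.assoc, reassoc_of% (genPt_ι V hV), ← halg])
  -- the good open of the base
  let U₀ : X.Opens := V.ι ''ᵁ ⟨(π '' (Ω : Set (CohB1.ProjSpaceOver 1 T))ᶜ)ᶜ,
    (π.isClosedMap _ Ω.2.isClosed_compl).isOpen_compl⟩
  have hηU₀ : genericPoint X ∈ U₀ := by
    refine ⟨⟨genericPoint X, hV⟩, ?_, rfl⟩
    rintro ⟨z, hz, hπz⟩
    refine hz (hΩ (hrange.ge ?_))
    refine ⟨IsLocalRing.closedPoint X.functionField, ?_⟩
    refine Eq.trans ?_ hπz.symm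
    apply V.ι.isOpenEmbedding.injective
    rw [← Scheme.Hom.comp_apply, genPt_ι, Scheme.fromSpecStalk_closedPoint]
    rfl
  -- the sections
  have key : ∀ (c : Spec (CommRingCat.of X.functionField) ⟶ (U' : Scheme.{u})),
      c ≫ U'.ι ≫ REq.P1K.toSpec X.functionField = 𝟙 _ →
      ∃ (W : X.Opens) (_ : genericPoint X ∈ W) (hW : W ≤ V) (s : (W : Scheme.{u}) ⟶ CohB1.ProjSpaceOver 1 T),
        s ≫ π = X.homOfLE hW ∧ genPt W (by assumption) ≫ s = c ≫ U'.ι ≫ j := by
    intro c hc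
    have hcπ : (c ≫ U'.ι ≫ j) ≫ π ≫ V.ι = X.fromSpecStalk (genericPoint X) ≫ 𝟙 X := by
      rw [Category.assoc, Category.assoc, ← Category.assoc j π, hsq.w, Category.assoc, genPt_ι, reassoc_of% hc,
        Category.comp_id]
    obtain ⟨W, hW, hWV, s, hs, hsg⟩ := exists_spread_point (𝟙 X) (π ≫ V.ι) hV _ hcπ
    refine ⟨W, hW, hWV, s, ?_, hsg⟩
    rw [← cancel_mono V.ι, Category.assoc, hs, Category.comp_id, Scheme.homOfLE_ι]
  obtain ⟨Wa, hηa, hWa, sa, hsa, hsag⟩ := key a ha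
  obtain ⟨Wb, hηb, hWb, sb, hsb, hsbg⟩ := key b hb
  let U : X.Opens := U₀ ⊓ (Wa ⊓ Wb)
  have hηU : genericPoint X ∈ U := ⟨hηU₀, hηa, hηb⟩
  have hUV : U ≤ V := inf_le_left.trans (Scheme.Opens.ι_image_le _ _)
  let Y : Scheme.{u} := (U : Scheme.{u})
  haveI : Nonempty Y := ⟨⟨genericPoint X, hηU⟩⟩
  haveI : IsIntegral Y := isIntegral_of_isOpenImmersion U.ι
  haveI : Smooth (U.ι ≫ f) := by
    rw [← Scheme.homOfLE_ι X hUV, Category.assoc]
    infer_instance
  haveI : IsSeparated (U.ι ≫ f) := inferInstance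
  haveI : QuasiCompact (U.ι ≫ f) := inferInstance
  -- the homotopy
  let inc : CohB1.ProjSpaceOver 1 Y ⟶ CohB1.ProjSpaceOver 1 T := P1.toP1 (X.homOfLE hUV)
  have hincπ : inc ≫ π = CohB1.ProjSpaceOver.toBase 1 Y ≫ X.homOfLE hUV := pullback.lift_snd _ _ _
  have hinc : Set.range inc ⊆ Set.range Ω.ι := by
    rw [Scheme.Opens.range_ι]
    rintro _ ⟨w, rfl⟩
    by_contra hw
    obtain ⟨t, ht, hte⟩ := (CohB1.ProjSpaceOver.toBase 1 Y w).2.1
    refine ht ⟨inc w, hw, ?_⟩
    apply V.ι.isOpenEmbedding.injective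
    rw [← Scheme.Hom.comp_apply, ← Scheme.Hom.comp_apply, ← Category.assoc, hincπ, Category.assoc,
      Scheme.homOfLE_ι, Scheme.Hom.comp_apply]
    exact hte.symm
  let H : CohB1.ProjSpaceOver 1 Y ⟶ X := IsOpenImmersion.lift Ω.ι inc hinc ≫ gΩ
  have hH : H ≫ f = CohB1.ProjSpaceOver.toBase 1 Y ≫ U.ι ≫ f := by
    rw [Category.assoc, hgΩ, IsOpenImmersion.lift_fac_assoc, reassoc_of% hincπ, Scheme.homOfLE_ι_assoc]
  have sect : ∀ (W : X.Opens) (hWη : genericPoint X ∈ W) (hW : W ≤ V) (hUW : U ≤ W)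
      (s : (W : Scheme.{u}) ⟶ CohB1.ProjSpaceOver 1 T) (_ : s ≫ π = X.homOfLE hW)
      (c : Spec (CommRingCat.of X.functionField) ⟶ (U' : Scheme.{u})) (_ : genPt W hWη ≫ s = c ≫ U'.ι ≫ j),
      ∃ σ : Y ⟶ CohB1.ProjSpaceOver 1 Y, σ ≫ CohB1.ProjSpaceOver.toBase 1 Y = 𝟙 Y ∧
        genPt U hηU ≫ σ ≫ H = c ≫ h := by
    intro W hWη hW hUW s hs c hc
    let σ : Y ⟶ CohB1.ProjSpaceOver 1 Y :=
      pullback.lift (X.homOfLE hUW ≫ s ≫ pullback.fst _ _) (𝟙 Y) (specULiftZIsTerminal.hom_ext _ _)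
    have hσ : σ ≫ inc = X.homOfLE hUW ≫ s := by
      apply pullback.hom_ext
      · rw [Category.assoc, show inc ≫ pullback.fst _ _ = pullback.fst _ _ from
          (pullback.lift_fst _ _ _).trans (Category.comp_id _)]
        exact (pullback.lift_fst _ _ _).trans (Category.assoc _ _ _).symm
      · refine (Category.assoc _ _ _).trans ?_
        refine (congrArg (σ ≫ ·) hincπ).trans ?_
        rw [← Category.assoc, show σ ≫ CohB1.ProjSpaceOver.toBase 1 Y = 𝟙 _ from pullback.lift_snd _ _ _,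
          Category.id_comp]
        refine Eq.trans ?_ (Category.assoc _ _ _).symm
        rw [show (s ≫ pullback.snd _ _) = X.homOfLE hW from hs, Scheme.homOfLE_homOfLE]
    refine ⟨σ, pullback.lift_snd _ _ _, ?_⟩
    have := hgΩj (Spec X.functionField) (c ≫ U'.ι) (genPt U hηU ≫ σ ≫ IsOpenImmersion.lift Ω.ι inc hinc) (by
      rw [Category.assoc, Category.assoc, IsOpenImmersion.lift_fac, hσ, ← Category.assoc (genPt U hηU),
        genPt_homOfLE, hc, Category.assoc])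
    simp only [H, ← Category.assoc] at this ⊢
    rw [this, Category.assoc c, hbarh]
  obtain ⟨σa, hσa, hσag⟩ := sect Wa hηa hWa (inf_le_right.trans inf_le_left) sa hsa a hsag
  obtain ⟨σb, hσb, hσbg⟩ := sect Wb hηb hWb (inf_le_right.trans inf_le_right) sb hsb b hsbg
  have hga : (σa ≫ H) ≫ f = U.ι ≫ f := by rw [Category.assoc, hH, reassoc_of% hσa]
  have hgb : (σb ≫ H) ≫ f = U.ι ≫ f := by rw [Category.assoc, hH, reassoc_of% hσb]
  refine ⟨U, hηU, hUV, _, _, hga, hgb, hσag.trans hA, hσbg.trans hB, ?_⟩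
  funext ξ
  let pr : Over.mk (CohB1.ProjSpaceOver.toBase 1 Y ≫ U.ι ≫ f) ⟶ Over.mk (U.ι ≫ f) :=
    Over.homMk (CohB1.ProjSpaceOver.toBase 1 Y) rfl
  let Hm : Over.mk (CohB1.ProjSpaceOver.toBase 1 Y ≫ U.ι ≫ f) ⟶ Over.mk f :=
    Over.homMk (U := Over.mk (CohB1.ProjSpaceOver.toBase 1 Y ≫ U.ι ≫ f)) (V := Over.mk f) H hH
  obtain ⟨η, hη⟩ := (hΦ Y (U.ι ≫ f)).2 (Φ.map Hm.op ξ)
  have main : ∀ (σ : Y ⟶ CohB1.ProjSpaceOver 1 Y) (hσ : σ ≫ CohB1.ProjSpaceOver.toBase 1 Y = 𝟙 Y)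
      (hg : (σ ≫ H) ≫ f = U.ι ≫ f), resΦ f Φ (σ ≫ H) hg ξ = η := by
    intro σ hσ hg
    let σ' : Over.mk (U.ι ≫ f) ⟶ Over.mk (CohB1.ProjSpaceOver.toBase 1 Y ≫ U.ι ≫ f) :=
      Over.homMk σ (show σ ≫ CohB1.ProjSpaceOver.toBase 1 Y ≫ U.ι ≫ f = U.ι ≫ f by rw [reassoc_of% hσ])
    have e₁ : (Over.homMk (σ ≫ H) hg : Over.mk (U.ι ≫ f) ⟶ Over.mk f) = σ' ≫ Hm := rfl
    have e₂ : σ' ≫ pr = 𝟙 _ := Over.OverMorphism.ext hσ
    rw [resΦ, e₁, op_comp, Functor.map_comp_apply, ← hη, ← Functor.map_comp_apply, ← op_comp]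
    exact (congrArg (fun m => Φ.map m.op η) e₂).trans (Functor.map_id_apply Φ _ η)
  rw [main σa hσa hga, main σb hσb hgb]

/-- An almost R-trivial proper variety has, on a nonempty smooth open, only constant classes. -/
theorem exists_open_range_eq [IsProper f] (halg : REq.specMap k X.functionField = X.fromSpecStalk (genericPoint X) ≫ f)
    (hΦ : ∀ (Y : Scheme.{u}) (g : Y ⟶ Spec (CommRingCat.of k)) [IsIntegral Y] [Smooth g]
      [IsSeparated g] [QuasiCompact g],
      Function.Bijective (Φ.map (Over.homMk (CohB1.ProjSpaceOver.toBase 1 Y) rfl :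
        Over.mk (CohB1.ProjSpaceOver.toBase 1 Y ≫ g) ⟶ Over.mk g).op))
    (hsm : ∃ V : X.Opens, (V : Set X).Nonempty ∧ Smooth (V.ι ≫ f)) (hR : REq.IsAlmostRTrivial f) :
    ∃ U : X.Opens, (U : Set X).Nonempty ∧ Smooth (U.ι ≫ f) ∧
      Set.range (Φ.map (Over.homMk U.ι rfl : Over.mk (U.ι ≫ f) ⟶ Over.mk f).op) =
        Set.range (Φ.map (Over.homMk (U.ι ≫ f) (Category.comp_id _) :
          Over.mk (U.ι ≫ f) ⟶ Over.mk (𝟙 (Spec (CommRingCat.of k)))).op) := by
  obtain ⟨V₀, hV₀, hVsm⟩ := hsm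
  obtain ⟨U₀, hU₀, hR⟩ := hR
  have hη₀ : genericPoint X ∈ U₀ :=
    ((genericPoint_spec X).mem_open_set_iff U₀.2).2 (by simpa using hU₀.nonempty)
  have hηV₀ : genericPoint X ∈ V₀ :=
    ((genericPoint_spec X).mem_open_set_iff V₀.2).2 (by simpa using hV₀)
  obtain ⟨V, hV, hηV, hVV₀⟩ := exists_isAffineOpen_mem_and_subset hηV₀
  haveI : IsAffine (V : Scheme.{u}) := hV
  haveI : Smooth (V.ι ≫ f) := by
    rw [← Scheme.homOfLE_ι X (show V ≤ V₀ from hVV₀), Category.assoc]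
    infer_instance
  obtain ⟨⟨p₀, hp₀⟩, hp₀U⟩ := (hR k).1
  have hp₀f : p₀ ≫ f = 𝟙 _ := by
    rw [hp₀, REq.specMap, show algebraMap k k = RingHom.id k from rfl]
    exact Spec.map_id _
  let A : REq.Pts f X.functionField := ⟨X.fromSpecStalk (genericPoint X), halg.symm⟩
  let B : REq.Pts f X.functionField :=
    ⟨REq.specMap k X.functionField ≫ p₀, by rw [Category.assoc, hp₀f, Category.comp_id]⟩
  have hAU : REq.InOpen f U₀ A := by
    rintro _ ⟨t, rfl⟩
    show X.fromSpecStalk (genericPoint X) t ∈ U₀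
    rw [Subsingleton.elim t (IsLocalRing.closedPoint _), Scheme.fromSpecStalk_closedPoint]
    exact hη₀
  have hBU : REq.InOpen f U₀ B := by
    rintro _ ⟨t, rfl⟩
    exact hp₀U ⟨_, rfl⟩
  have hgood : ∀ C D : REq.Pts f X.functionField, REq.REquiv f X.functionField C D → Good f V Φ C.1 D.1 := by
    intro C D h
    induction h with
    | rel C D h => exact good_of_elemLink halg hηV hΦ h
    | refl C => exact good_refl halg hηV C
    | symm C D _ ih => exact ih.symm
    | trans C D E _ _ ih₁ ih₂ => exact ih₁.trans ih₂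
  obtain ⟨U, hU, hUV, g, g', hg, hg', eg, eg', h⟩ := hgood A B ((hR X.functionField).2 A B hAU hBU)
  have hgι : g = U.ι := ext_genPt f hU hg (eg.trans (genPt_ι U hU).symm)
  have hg'c : g' = (U.ι ≫ f) ≫ p₀ := by
    refine ext_genPt f hU (by rw [hg', Category.assoc, hp₀f, Category.comp_id]) ?_
    rw [eg', ← Category.assoc, ← Category.assoc, genPt_ι, ← halg]
  refine ⟨U, ⟨_, hU⟩, ?_, ?_⟩
  · rw [← Scheme.homOfLE_ι X hUV, Category.assoc]
    infer_instance
  have hc : ∀ ξ, Φ.map (Over.homMk U.ι rfl : Over.mk (U.ι ≫ f) ⟶ Over.mk f).op ξ =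
      Φ.map (Over.homMk (U.ι ≫ f) (Category.comp_id _) :
        Over.mk (U.ι ≫ f) ⟶ Over.mk (𝟙 (Spec (CommRingCat.of k)))).op
        (Φ.map (Over.homMk p₀ hp₀f : Over.mk (𝟙 (Spec (CommRingCat.of k))) ⟶ Over.mk f).op ξ) := by
    intro ξ
    subst hgι hg'c
    refine (congrFun h ξ).trans ?_
    rw [← Functor.map_comp_apply, ← op_comp]
    rfl
  refine Set.Subset.antisymm ?_ ?_
  · rintro _ ⟨ξ, rfl⟩
    exact ⟨_, (hc ξ).symm⟩
  · rintro _ ⟨ζ, rfl⟩
    refine ⟨Φ.map (Over.homMk f (Category.comp_id _) :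
      Over.mk f ⟶ Over.mk (𝟙 (Spec (CommRingCat.of k)))).op ζ, ?_⟩
    rw [← Functor.map_comp_apply, ← op_comp]
    rfl

end GrothLib.RInv26
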